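import Groth.Agent.Pi1.K260.D1Plan
import Groth.Agent.Flat2E.AIC7
import Groth.Agent.Desc.LQF
import Mathlib.AlgebraicGeometry.Morphisms.QuasiFinite
import Mathlib.AlgebraicGeometry.Morphisms.FlatMono

/-!
# Node AICX2: étale schemes over an absolutely integrally closed scheme

* `K675.AicX2.exists_chart`: `AicData` passes to étale schemes, with charts which are open immersions over the base.
* `K675.AicX2.aicX2 : K260.D1.AicX2`.
-/

set_option autoImplicit false
universe u

open CategoryTheory CategoryTheory.Limits AlgebraicGeometry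

namespace K675.AicX2

open K260.D1 Groth.Agent.Flat2E

theorem exists_isolated {X Y : Scheme.{u}} (f : X ⟶ Y) [Etale f] (x : X) :
    ∃ U : X.Opens, x ∈ U ∧ ∀ x' ∈ U, f x' = f x → x' = x := by
  have := Groth.Agent.Desc.LQF.of_etale f
  have h := (f.isDiscrete_preimage_singleton (f x)).to_subtype
  obtain ⟨U, hU, hU2⟩ := (discreteTopology_subtype_iff'.1 h) x rfl
  refine ⟨⟨U, hU⟩, ?_, fun x' hx' hx'' => ?_⟩
  · have : x ∈ U ∩ f ⁻¹' {f x} := by rw [hU2]; rfl
    exact this.1
  · have : x' ∈ U ∩ f ⁻¹' {f x} := ⟨hx', hx''⟩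
    rw [hU2] at this
    exact this

theorem isDomain_localization {R S : Type u} [CommRing R] [CommRing S] [Algebra R S] (M : Submonoid R)
    [IsLocalization M S] (h : ∀ (q : Ideal R) [q.IsPrime], IsDomain (Localization.AtPrime q)) (q : Ideal S)
    [q.IsPrime] : IsDomain (Localization.AtPrime q) := by
  have h2 : IsLocalization.AtPrime (Localization.AtPrime q) (q.comap (algebraMap R S)) :=
    IsLocalization.isLocalization_isLocalization_atPrime_isLocalization M (Localization.AtPrime q) q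
  have := h (q.comap (algebraMap R S))
  exact (IsLocalization.algEquiv (q.comap (algebraMap R S)).primeCompl (Localization.AtPrime q)
    (Localization.AtPrime (q.comap (algebraMap R S)))).toMulEquiv.isDomain _

/-- Around every point of an étale scheme over `T` there is a chart which is an open immersion over `T`. -/
theorem exists_chart {T M : Scheme.{u}} {Q : Set T} (h : AicData Q) (m : M ⟶ T) [Etale m] (y : M) :
    ∃ (R : Type u) (_ : CommRing R) (e : Spec (CommRingCat.of R) ⟶ M) (_ : IsOpenImmersion e),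
      y ∈ Set.range e ∧ IsOpenImmersion (e ≫ m) ∧ AIC1.IsAIC R ∧
      (∀ (q : Ideal R) [q.IsPrime], IsDomain (Localization.AtPrime q)) ∧ Dense (e ⁻¹' (m ⁻¹' Q)) ∧
      ∀ D ⊆ e ⁻¹' (m ⁻¹' Q), ∃ C : Set ↥(Spec (CommRingCat.of R)), IsClopen C ∧ C ∩ e ⁻¹' (m ⁻¹' Q) = D := by
  obtain ⟨R, _, e, he, ⟨q, hq⟩, hR, hdom, hdense, hcl⟩ := h.chart (m y)
  obtain ⟨y', hy', hy''⟩ := Scheme.Pullback.exists_preimage_pullback (f := m) (g := e) y q hq.symm
  obtain ⟨O, hO, hO2⟩ := exists_isolated (pullback.snd m e) y'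
  obtain ⟨c, σ, hc, hσ⟩ := AIC7.exists_section_of_etale hR q (O.ι ≫ pullback.snd m e)
    ⟨⟨y', hO⟩, by rw [Scheme.Hom.comp_apply, ← hy'']; rfl⟩
  let loc : Spec (CommRingCat.of (Localization.Away c)) ⟶ Spec (CommRingCat.of R) :=
    Spec.map (CommRingCat.ofHom (algebraMap R (Localization.Away c)))
  have hloc : IsOpenImmersion loc := by
    have := IsOpenImmersion.of_isLocalization (R := R) (S := Localization.Away c) c
    exact this
  have hσ' : σ ≫ O.ι ≫ pullback.snd m e = loc := hσ
  have h1 : Etale (σ ≫ O.ι ≫ pullback.snd m e) := by rw [hσ']; infer_instance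
  have h2 : Etale σ := Etale.of_comp σ (O.ι ≫ pullback.snd m e)
  have h3 : Mono σ := by
    have : Mono (σ ≫ O.ι ≫ pullback.snd m e) := by rw [hσ']; infer_instance
    exact mono_of_mono σ (O.ι ≫ pullback.snd m e)
  have h4 : IsOpenImmersion σ := IsOpenImmersion.of_flat_of_mono σ
  let e' : Spec (CommRingCat.of (Localization.Away c)) ⟶ M := σ ≫ O.ι ≫ pullback.fst m e
  have he' : e' ≫ m = loc ≫ e := by
    simp only [e', Category.assoc]
    rw [pullback.condition, ← hσ', Category.assoc, Category.assoc]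
  have h5 : q ∈ Set.range loc := by
    have : q ∈ Set.range (PrimeSpectrum.comap (algebraMap R (Localization.Away c))) := by
      rw [PrimeSpectrum.localization_away_comap_range (Localization.Away c) c]
      exact hc
    exact this
  obtain ⟨q', hq'⟩ := h5
  have h6 : e' q' = y := by
    have h7 : (O.ι ≫ pullback.snd m e) (σ q') = q := by
      rw [← hq', ← hσ', Scheme.Hom.comp_apply σ]
    have h8 : O.ι (σ q') = y' := hO2 _ (σ q').2 (by
      rw [hy'']
      rw [Scheme.Hom.comp_apply] at h7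
      exact h7)
    rw [← hy', ← h8]
    simp only [e', Scheme.Hom.comp_apply]
  have h9 : e' ⁻¹' (m ⁻¹' Q) = loc ⁻¹' (e ⁻¹' Q) := by
    ext z
    simp only [Set.mem_preimage]
    rw [← Scheme.Hom.comp_apply, he', Scheme.Hom.comp_apply]
  refine ⟨Localization.Away c, inferInstance, e', inferInstance, ⟨q', h6⟩, ?_, hR.of_isLocalization (Submonoid.powers c),
    fun p _ => isDomain_localization (Submonoid.powers c) hdom p, ?_, ?_⟩
  · rw [he']; infer_instance
  · rw [h9]
    exact hdense.preimage loc.isOpenEmbedding.isOpenMap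
  · intro D hD
    rw [h9] at hD ⊢
    obtain ⟨C, hC, hC2⟩ := hcl (loc '' D) (by
      rintro _ ⟨z, hz, rfl⟩
      exact hD hz)
    refine ⟨loc ⁻¹' C, hC.preimage loc.continuous, ?_⟩
    rw [← Set.preimage_inter, hC2]
    exact Set.preimage_image_eq D loc.isOpenEmbedding.injective

theorem aicData_etale {T M : Scheme.{u}} {Q : Set T} (h : AicData Q) (m : M ⟶ T) [Etale m] :
    AicData (m ⁻¹' Q) where
  chart y := by
    obtain ⟨R, i, e, he, h1, -, h2, h3, h4, h5⟩ := exists_chart h m y
    exact ⟨R, i, e, he, h1, h2, h3, h4, h5⟩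

theorem dense {T : Scheme.{u}} {Q : Set T} (h : AicData Q) : Dense Q := by
  intro y
  obtain ⟨R, i, e, he, ⟨q, rfl⟩, -, -, h1, -⟩ := h.chart y
  rw [mem_closure_iff]
  intro U hU hy
  obtain ⟨z, hz, hz2⟩ := (mem_closure_iff.1 (h1 q)) (e ⁻¹' U) (hU.preimage e.continuous) hy
  exact ⟨e z, hz, hz2⟩

/-- Functions on a dense subset which are locally constant around all points extend. -/
theorem exists_ext_of_loc {T : Type*} [TopologicalSpace T] {Q : Set T} (hQ : Dense Q) {E : Type*} (f : Q → E)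
    (h : ∀ y, ∃ v, ∃ U, IsOpen U ∧ y ∈ U ∧ ∀ x : Q, x.1 ∈ U → f x = v) :
    ∃ g : T → E, IsLocallyConstant g ∧ ∀ x : Q, g x.1 = f x := by
  choose v U hU hy hv using h
  have key : ∀ y y', y' ∈ U y → v y' = v y := by
    intro y y' hy'
    obtain ⟨z, ⟨hz, hz'⟩, hz2⟩ := hQ.inter_open_nonempty (U y ∩ U y') ((hU y).inter (hU y')) ⟨y', hy', hy y'⟩
    rw [← hv y ⟨z, hz2⟩ hz, hv y' ⟨z, hz2⟩ hz']
  refine ⟨v, (IsLocallyConstant.iff_exists_open v).2 fun y => ⟨U y, hU y, hy y, fun y' hy' => key y y' hy'⟩,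
    fun x => (hv x.1 x (hy x.1)).symm⟩

theorem exists_ext {T : Scheme.{u}} {Q : Set T} (h : AicData Q) {E : Type*} [Finite E] (f : Q → E) :
    ∃ g : T → E, IsLocallyConstant g ∧ ∀ x : Q, g x.1 = f x := by
  refine exists_ext_of_loc (dense h) f fun y => ?_
  obtain ⟨R, i, e, he, ⟨q, rfl⟩, -, -, h1, h2⟩ := h.chart y
  choose C hC hC2 using fun v : E => h2 {z | ∃ hz : e z ∈ Q, f ⟨e z, hz⟩ = v} (fun z hz => hz.1)
  have h3 : q ∈ ⋃ v, C v := by
    have h4 : IsClosed (⋃ v, C v) := isClosed_iUnion_of_finite fun v => (hC v).1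
    have h5 : e ⁻¹' Q ⊆ ⋃ v, C v := by
      intro z hz
      have h6 : z ∈ C (f ⟨e z, hz⟩) ∩ e ⁻¹' Q := by
        rw [hC2]
        exact ⟨hz, rfl⟩
      exact Set.mem_iUnion.2 ⟨_, h6.1⟩
    have h7 := closure_minimal h5 h4
    rw [h1.closure_eq] at h7
    exact h7 trivial
  obtain ⟨v, hv⟩ := Set.mem_iUnion.1 h3
  refine ⟨v, e '' C v, e.isOpenEmbedding.isOpenMap _ (hC v).2, ⟨q, hv, rfl⟩, ?_⟩
  rintro ⟨x, hx⟩ ⟨z, hz, hz2⟩
  dsimp only at hz2
  subst hz2
  have h8 : z ∈ C v ∩ e ⁻¹' Q := ⟨hz, hx⟩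
  rw [hC2] at h8
  exact h8.2

/-- A locally constant function is determined on the closure. -/
theorem eq_of_dense {T : Type*} [TopologicalSpace T] {Q : Set T} (hQ : Dense Q) {E : Type*} {f g : T → E}
    (hf : IsLocallyConstant f) (hg : IsLocallyConstant g) (h : ∀ x ∈ Q, f x = g x) : f = g := by
  funext y
  obtain ⟨U, hU, hy, hU2⟩ := (IsLocallyConstant.iff_exists_open f).1 hf y
  obtain ⟨V, hV, hy', hV2⟩ := (IsLocallyConstant.iff_exists_open g).1 hg y
  obtain ⟨z, ⟨hz, hz'⟩, hz2⟩ := hQ.inter_open_nonempty (U ∩ V) (hU.inter hV) ⟨y, hy, hy'⟩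
  rw [← hU2 z hz, ← hV2 z hz', h z hz2]

/-- The diagonal of an étale morphism to a scheme with `AicData` is surjective if the points over the distinguished
points are unique. -/
theorem diagonal_surjective {M P : Scheme.{u}} {Q : Set M} (h : AicData Q) (π : P ⟶ M) [Etale π]
    [IsSeparated π] (hu : ∀ x y : P, π x = π y → π x ∈ Q → x = y) : Surjective (pullback.diagonal π) := by
  have h1 : AicData (((pullback.fst π π) ≫ π) ⁻¹' Q) := aicData_etale h (pullback.fst π π ≫ π)
  have h2 := dense h1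
  have h3 : IsClosed (Set.range (pullback.diagonal π)) := (pullback.diagonal π).isClosedEmbedding.isClosed_range
  have h4 : ((pullback.fst π π) ≫ π) ⁻¹' Q ⊆ Set.range (pullback.diagonal π) := by
    intro z hz
    have h5 : pullback.fst π π z = pullback.snd π π z := by
      apply hu
      · rw [← Scheme.Hom.comp_apply, ← Scheme.Hom.comp_apply, pullback.condition]
      · exact hz
    obtain ⟨R, i, e, he, ⟨q, hq⟩, h6, -⟩ := exists_chart h π (pullback.fst π π z)
    let W : (pullback π π).Opens := (pullback.fst π π) ⁻¹ᵁ e.opensRange ⊓ (pullback.snd π π) ⁻¹ᵁ e.opensRange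
    have hzW : z ∈ W := ⟨⟨q, hq⟩, ⟨q, hq.trans h5⟩⟩
    let a : (W : Scheme.{u}) ⟶ Spec (CommRingCat.of R) := IsOpenImmersion.lift e (W.ι ≫ pullback.fst π π) (by
      rintro _ ⟨w, rfl⟩
      exact w.2.1)
    let b : (W : Scheme.{u}) ⟶ Spec (CommRingCat.of R) := IsOpenImmersion.lift e (W.ι ≫ pullback.snd π π) (by
      rintro _ ⟨w, rfl⟩
      exact w.2.2)
    have ha : a ≫ e = W.ι ≫ pullback.fst π π := IsOpenImmersion.lift_fac _ _ _
    have hb : b ≫ e = W.ι ≫ pullback.snd π π := IsOpenImmersion.lift_fac _ _ _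
    have hab : a = b := by
      rw [← cancel_mono (e ≫ π), ← Category.assoc, ha, ← Category.assoc, hb, Category.assoc, Category.assoc,
        pullback.condition]
    have h7 : W.ι = (W.ι ≫ pullback.fst π π) ≫ pullback.diagonal π := by
      apply pullback.hom_ext
      · rw [Category.assoc, pullback.diagonal_fst, Category.comp_id]
      · rw [Category.assoc, pullback.diagonal_snd, Category.comp_id, ← ha, ← hb, hab]
    refine ⟨(W.ι ≫ pullback.fst π π) ⟨z, hzW⟩, ?_⟩
    rw [← Scheme.Hom.comp_apply, ← h7]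
    rfl
  refine ⟨fun z => ?_⟩
  have h5 := closure_minimal h4 h3
  rw [h2.closure_eq] at h5
  exact h5 trivial

/-- A finite étale morphism to a scheme with `AicData` is an isomorphism if there is exactly one point over every
distinguished point. -/
theorem isIso_of_unique {M P : Scheme.{u}} {Q : Set M} (h : AicData Q) (π : P ⟶ M) [IsFinite π] [Etale π]
    (hu : ∀ x y : P, π x = π y → π x ∈ Q → x = y) (hs : ∀ y ∈ Q, y ∈ Set.range π) : IsIso π := by
  have h1 := diagonal_surjective h π hu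
  have h2 : IsIso (pullback.diagonal π) := by
    have : IsOpenImmersion (pullback.diagonal π) := inferInstance
    exact (isIso_iff_isOpenImmersion_and_epi_base (pullback.diagonal π)).2 ⟨this, by
      rw [TopCat.epi_iff_surjective]; exact h1.1⟩
  have h3 : Mono π := (pullback.isIso_diagonal_iff π).1 h2
  have h4 : IsOpenImmersion π := IsOpenImmersion.of_flat_of_mono π
  have h5 : Surjective π := by
    have h6 : IsClosed (Set.range π) := π.isClosedMap.isClosed_range
    have h7 := closure_minimal (show Q ⊆ Set.range π from fun y hy => hs y hy) h6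
    rw [(dense h).closure_eq] at h7
    exact ⟨fun y => h7 trivial⟩
  exact (isIso_iff_isOpenImmersion_and_epi_base π).2 ⟨h4, by rw [TopCat.epi_iff_surjective]; exact h5.1⟩

theorem exists_section {M P : Scheme.{u}} {Q : Set M} (h : AicData Q) (π : P ⟶ M) [IsFinite π] [Etale π]
    [Surjective π] : ∃ s : M ⟶ P, s ≫ π = 𝟙 M := by
  classical
  choose p hp using fun y : M => π.surjective y
  obtain ⟨g, hg, hg2⟩ := exists_ext (aicData_etale h π) (fun x : ↥(π ⁻¹' Q) => decide (p (π x.1) = x.1))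
  have hcl : IsClopen (g ⁻¹' {true}) := hg.isClopen_fiber true
  let U : P.Opens := ⟨g ⁻¹' {true}, hcl.2⟩
  have h1 : IsClosedImmersion U.ι := by
    refine IsClosedImmersion.of_isPreimmersion U.ι ?_
    rw [Scheme.Opens.range_ι]
    exact hcl.1
  have h2 : IsFinite (U.ι ≫ π) := inferInstance
  have h3 : IsIso (U.ι ≫ π) := by
    apply isIso_of_unique h
    · intro x y hxy hx
      have hx' : g x.1 = true := x.2
      have hy' : g y.1 = true := y.2
      have hx2 : π x.1 ∈ Q := hx
      have hxy2 : π x.1 = π y.1 := hxy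
      have h4 := hg2 ⟨x.1, hx2⟩
      have h5 := hg2 ⟨y.1, show π y.1 ∈ Q by rw [← hxy2]; exact hx2⟩
      rw [hx'] at h4
      rw [hy'] at h5
      have h6 := of_decide_eq_true h4.symm
      have h7 := of_decide_eq_true h5.symm
      apply Subtype.ext
      rw [← h6, ← h7]
      dsimp only
      rw [hxy2]
    · intro y hy
      have h4 := hg2 ⟨p y, show π (p y) ∈ Q by rw [hp]; exact hy⟩
      refine ⟨⟨p y, ?_⟩, ?_⟩
      · change g (p y) = true
        rw [h4]
        exact decide_eq_true (congrArg p (hp y))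
      · exact hp y
  exact ⟨inv (U.ι ≫ π) ≫ U.ι, by rw [Category.assoc, IsIso.inv_hom_id]⟩

theorem aicX2 : K260.D1.AicX2.{u} := by
  intro X Z T j hj t Q ht h1 h2 h
  have h2' : ∀ {M : Scheme.{u}} (m : M ⟶ T), m ⁻¹' Q ⊆ (m ≫ t) ⁻¹' Set.range j := by
    intro M m x hx
    exact h2 _ hx
  refine ⟨ht, ?_, ?_, ?_, ?_⟩
  · intro x
    obtain ⟨y, -, hy⟩ := h1 x
    exact ⟨y, hy⟩
  · intro M m hm
    exact (dense (aicData_etale h m)).mono (h2' m)
  · intro M m hm E _ f hf
    obtain ⟨g, hg, hg2⟩ := exists_ext (aicData_etale h m) (fun x : ↥(m ⁻¹' Q) => f ⟨x.1, h2' m x.2⟩)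
    refine ⟨g, hg, ?_⟩
    have hop : IsOpen ((m ≫ t) ⁻¹' Set.range j) := j.isOpenEmbedding.isOpen_range.preimage (m ≫ t).continuous
    have h3 : Dense ((Subtype.val : ↥((m ≫ t) ⁻¹' Set.range j) → M) ⁻¹' (m ⁻¹' Q)) :=
      (dense (aicData_etale h m)).preimage hop.isOpenMap_subtype_val
    have h4 := eq_of_dense h3 (hg.comp_continuous continuous_subtype_val) hf (fun x hx => hg2 ⟨x.1, hx⟩)
    intro x
    exact congrFun h4 x
  · intro M P m hm π h3 h4 h5
    exact exists_section (aicData_etale h m) π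

end K675.AicX2
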